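import Mathlib
import Cfsg.Prelude.Def_Transfer

/-!
# Transfer in stages through orbits of a 2-group, written with the coset cocycle

`alpha θ x q` is the contribution of the coset `q` to the transfer of `θ` at `x`.
-/

set_option autoImplicit false
set_option linter.style.haveILetI false
set_option linter.unusedSectionVars false

namespace Cfsg.Agent.Lib.StagedTransfer68

variable {G : Type*} [Group G] {C : Subgroup G} {M : Type*} [CommGroup M]

theorem cocycle_mem (C : Subgroup G) (x : G) (q : G ⧸ C) : (x • q).out⁻¹ * (x * q.out) ∈ C := by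
  rw [← QuotientGroup.eq, QuotientGroup.out_eq', ← smul_eq_mul, ← MulAction.Quotient.smul_coe,
    QuotientGroup.out_eq']

/-- the contribution of the coset `q` to the transfer of `θ` at `x` -/
noncomputable def alpha (θ : ↥C →* M) (x : G) (q : G ⧸ C) : M :=
  θ ⟨(x • q).out⁻¹ * (x * q.out), cocycle_mem C x q⟩

theorem alpha_mul (θ : ↥C →* M) (x y : G) (q : G ⧸ C) :
    alpha θ (x * y) q = alpha θ x (y • q) * alpha θ y q := by
  unfold alpha
  rw [← map_mul]
  congr 1
  apply Subtype.ext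
  simp only [Subgroup.coe_mul, mul_smul]
  group

theorem alpha_one (θ : ↥C →* M) (q : G ⧸ C) : alpha θ 1 q = 1 := by
  have h := alpha_mul θ 1 1 q
  rw [one_mul, one_smul] at h
  exact mul_eq_left.mp h.symm

theorem alpha_fix (θ : ↥C →* M) {x : G} {q : G ⧸ C} (hx : x • q = q)
    (hm : q.out⁻¹ * x * q.out ∈ C) : alpha θ x q = θ ⟨q.out⁻¹ * x * q.out, hm⟩ := by
  unfold alpha
  congr 1
  apply Subtype.ext
  simp only [hx, mul_assoc]

theorem fix_mem {x : G} {q : G ⧸ C} (hx : x • q = q) : q.out⁻¹ * x * q.out ∈ C := by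
  have := cocycle_mem C x q
  rwa [hx, ← mul_assoc] at this

variable [Finite G]

/-- the orbit of `q` under the subgroup `H`, as a finset -/
noncomputable def orb (H : Subgroup G) (q : G ⧸ C) : Finset (G ⧸ C) :=
  (Set.toFinite {r : G ⧸ C | ∃ h ∈ H, h • q = r}).toFinset

theorem mem_orb {H : Subgroup G} {q r : G ⧸ C} : r ∈ orb H q ↔ ∃ h ∈ H, h • q = r := by
  simp [orb]

theorem self_mem_orb (H : Subgroup G) (q : G ⧸ C) : q ∈ orb H q :=
  mem_orb.mpr ⟨1, H.one_mem, one_smul _ _⟩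

theorem smul_mem_orb {H : Subgroup G} {q r : G ⧸ C} {y : G} (hy : y ∈ H) :
    y • r ∈ orb H q ↔ r ∈ orb H q := by
  constructor
  · intro h
    obtain ⟨k, hk, hkr⟩ := mem_orb.mp h
    exact mem_orb.mpr ⟨y⁻¹ * k, H.mul_mem (H.inv_mem hy) hk, by rw [mul_smul, hkr, inv_smul_smul]⟩
  · intro h
    obtain ⟨k, hk, rfl⟩ := mem_orb.mp h
    exact mem_orb.mpr ⟨y * k, H.mul_mem hy hk, mul_smul _ _ _⟩

/-- the product of the contributions over one orbit -/
noncomputable def val (θ : ↥C →* M) (H : Subgroup G) (q : G ⧸ C) (x : G) : M :=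
  ∏ r ∈ orb H q, alpha θ x r

theorem val_mul (θ : ↥C →* M) (H : Subgroup G) (q : G ⧸ C) (x : G) {y : G} (hy : y ∈ H) :
    val θ H q (x * y) = val θ H q x * val θ H q y := by
  unfold val
  simp only [alpha_mul, Finset.prod_mul_distrib]
  congr 1
  exact Finset.prod_equiv (MulAction.toPerm y) (fun r => (smul_mem_orb hy).symm) (fun r _ => rfl)

theorem val_one (θ : ↥C →* M) (H : Subgroup G) (q : G ⧸ C) : val θ H q 1 = 1 := by
  simp [val, alpha_one]

theorem val_sq (θ : ↥C →* M) (hsq : ∀ c, θ c * θ c = 1) (H : Subgroup G) (q : G ⧸ C) (x : G) :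
    val θ H q x * val θ H q x = 1 := by
  unfold val
  rw [← Finset.prod_mul_distrib]
  exact Finset.prod_eq_one fun r _ => hsq _

/-- the subgroup `H ∪ nH` -/
def ext2 (H : Subgroup G) (n : G) (hN : ∀ h ∈ H, n⁻¹ * h * n ∈ H) (hn2 : n * n ∈ H) : Subgroup G where
  carrier := {x | x ∈ H ∨ n⁻¹ * x ∈ H}
  one_mem' := Or.inl H.one_mem
  mul_mem' := by
    rintro a b (ha | ha) (hb | hb)
    · exact Or.inl (H.mul_mem ha hb)
    · refine Or.inr ?_
      have := H.mul_mem (hN a ha) hb
      convert this using 1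
      group
    · refine Or.inr ?_
      have := H.mul_mem ha hb
      convert this using 1
      group
    · refine Or.inl ?_
      have := H.mul_mem (H.mul_mem hn2 (hN _ ha)) hb
      convert this using 1
      group
  inv_mem' := by
    rintro a (ha | ha)
    · exact Or.inl (H.inv_mem ha)
    · refine Or.inr ?_
      have e := H.mul_mem (hN _ (H.inv_mem ha)) (H.inv_mem hn2)
      convert e using 1
      group

variable {H : Subgroup G} {n : G} {hN : ∀ h ∈ H, n⁻¹ * h * n ∈ H} {hn2 : n * n ∈ H}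

theorem mem_ext2 {x : G} : x ∈ ext2 H n hN hn2 ↔ x ∈ H ∨ n⁻¹ * x ∈ H := Iff.rfl

theorem le_ext2 : H ≤ ext2 H n hN hn2 := fun _ h => Or.inl h

theorem mem_ext2_self : n ∈ ext2 H n hN hn2 := Or.inr (by rw [inv_mul_cancel]; exact H.one_mem)

theorem ext2_le {D : Subgroup G} (hHD : H ≤ D) (hn : n ∈ D) : ext2 H n hN hn2 ≤ D := by
  rintro x (hx | hx)
  · exact hHD hx
  · have := D.mul_mem hn (hHD hx)
    rwa [mul_inv_cancel_left] at this

theorem card_ext2_lt (hnH : n ∉ H) : Nat.card H < Nat.card (ext2 H n hN hn2) :=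
  lt_of_le_of_ne (Subgroup.card_le_of_le le_ext2) fun e => hnH
    ((Subgroup.eq_of_le_of_card_ge le_ext2 e.ge).symm.le mem_ext2_self)

theorem conj_fwd (hN : ∀ h ∈ H, n⁻¹ * h * n ∈ H) (hn2 : n * n ∈ H) {h : G} (hh : h ∈ H) :
    n * h * n⁻¹ ∈ H := by
  have := H.mul_mem (H.mul_mem hn2 (hN _ hh)) (H.inv_mem hn2)
  convert this using 1
  group

variable {D : Subgroup G} {q : G ⧸ C}

theorem orb_ext2 (hnH : n ∉ H) (hnD : n ∈ D) (hHD : H ≤ D) (hR : ∀ x ∈ D, x • q = q → x ∈ H) :
    Disjoint (orb H q) ((orb H q).map (MulAction.toPerm n).toEmbedding) ∧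
      orb (ext2 H n hN hn2) q = (orb H q).disjUnion ((orb H q).map (MulAction.toPerm n).toEmbedding)
        (by
          rw [Finset.disjoint_left]
          intro r hr hr'
          obtain ⟨h', hh', rfl⟩ := mem_orb.mp hr
          obtain ⟨s, hs, hsr⟩ := Finset.mem_map.mp hr'
          obtain ⟨h, hh, rfl⟩ := mem_orb.mp hs
          have h1 : (h'⁻¹ * (n * h)) • q = q := by
            rw [mul_smul, mul_smul]
            have : n • h • q = h' • q := hsr
            rw [this, inv_smul_smul]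
          have h2 := hR _ (D.mul_mem (D.inv_mem (hHD hh')) (D.mul_mem hnD (hHD hh))) h1
          apply hnH
          have := H.mul_mem (H.mul_mem hh' h2) (H.inv_mem hh)
          convert this using 1
          group) := by
  constructor
  · rw [Finset.disjoint_left]
    intro r hr hr'
    obtain ⟨h', hh', rfl⟩ := mem_orb.mp hr
    obtain ⟨s, hs, hsr⟩ := Finset.mem_map.mp hr'
    obtain ⟨h, hh, rfl⟩ := mem_orb.mp hs
    have h1 : (h'⁻¹ * (n * h)) • q = q := by
      rw [mul_smul, mul_smul]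
      have : n • h • q = h' • q := hsr
      rw [this, inv_smul_smul]
    have h2 := hR _ (D.mul_mem (D.inv_mem (hHD hh')) (D.mul_mem hnD (hHD hh))) h1
    apply hnH
    have := H.mul_mem (H.mul_mem hh' h2) (H.inv_mem hh)
    convert this using 1
    group
  · ext r
    simp only [Finset.mem_disjUnion, Finset.mem_map, mem_orb]
    constructor
    · rintro ⟨k, hk | hk, rfl⟩
      · exact Or.inl ⟨k, hk, rfl⟩
      · refine Or.inr ⟨(n⁻¹ * k) • q, ⟨_, hk, rfl⟩, ?_⟩
        show n • (n⁻¹ * k) • q = k • q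
        rw [smul_smul, mul_inv_cancel_left]
    · rintro (⟨k, hk, rfl⟩ | ⟨s, ⟨k, hk, rfl⟩, rfl⟩)
      · exact ⟨k, le_ext2 hk, rfl⟩
      · exact ⟨n * k, Or.inr (by rwa [inv_mul_cancel_left]), mul_smul _ _ _⟩

/-- Value of the enlarged orbit on the smaller group. -/
theorem val_ext2_of_mem (θ : ↥C →* M) (hnH : n ∉ H) (hnD : n ∈ D) (hHD : H ≤ D)
    (hR : ∀ x ∈ D, x • q = q → x ∈ H) {h : G} (hh : h ∈ H) :
    val θ (ext2 H n hN hn2) q h = val θ H q h * val θ H q (n⁻¹ * h * n) := by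
  rw [val, (orb_ext2 hnH hnD hHD hR).2, Finset.prod_disjUnion, Finset.prod_map]
  congr 1
  have h1 : ∀ r, alpha θ h (n • r) * alpha θ n r =
      alpha θ n ((n⁻¹ * h * n) • r) * alpha θ (n⁻¹ * h * n) r := by
    intro r
    rw [← alpha_mul, ← alpha_mul]
    congr 1
    group
  have h2 : (∏ r ∈ orb H q, alpha θ h (n • r)) * (∏ r ∈ orb H q, alpha θ n r) =
      val θ H q (n⁻¹ * h * n) * (∏ r ∈ orb H q, alpha θ n r) := by
    rw [← Finset.prod_mul_distrib, Finset.prod_congr rfl fun r _ => h1 r, Finset.prod_mul_distrib,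
      mul_comm]
    congr 1
    exact Finset.prod_equiv (MulAction.toPerm (n⁻¹ * h * n))
      (fun r => (smul_mem_orb (hN h hh)).symm) (fun r _ => rfl)
  exact mul_right_cancel h2

/-- Value of the enlarged orbit on the new element. -/
theorem val_ext2_self (θ : ↥C →* M) (hnH : n ∉ H) (hnD : n ∈ D) (hHD : H ≤ D)
    (hR : ∀ x ∈ D, x • q = q → x ∈ H) :
    val θ (ext2 H n hN hn2) q n = val θ H q (n * n) := by
  rw [val, (orb_ext2 hnH hnD hHD hR).2, Finset.prod_disjUnion, Finset.prod_map, ← Finset.prod_mul_distrib]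
  exact Finset.prod_congr rfl fun r _ => by
    rw [alpha_mul, mul_comm]
    rfl

/-- Triviality on the old group and the new element gives triviality on the enlarged group. -/
theorem val_ext2_trivial (θ : ↥C →* M)
    (h0 : ∀ h ∈ H, val θ (ext2 H n hN hn2) q h = 1)
    (h1 : val θ (ext2 H n hN hn2) q n = 1) : ∀ x ∈ ext2 H n hN hn2, val θ (ext2 H n hN hn2) q x = 1 := by
  rintro x (hx | hx)
  · exact h0 x hx
  · have : val θ (ext2 H n hN hn2) q (n * (n⁻¹ * x)) = 1 := by
      rw [val_mul θ _ q n (le_ext2 hx), h1, h0 _ hx, one_mul]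
    rwa [mul_inv_cancel_left] at this

/-- An element above `H` normalising it with square in `H`. -/
theorem exists_step {D H : Subgroup G} (hD : IsPGroup 2 D) (hHD : H ≤ D) (hne : H ≠ D) :
    ∃ n ∈ D, n ∉ H ∧ (∀ h ∈ H, n⁻¹ * h * n ∈ H) ∧ n * n ∈ H := by
  haveI : Fact (Nat.Prime 2) := ⟨Nat.prime_two⟩
  haveI : Group.IsNilpotent ↥D := hD.isNilpotent
  have hlt : H.subgroupOf D < ⊤ := lt_of_le_of_ne le_top fun e =>
    hne (le_antisymm hHD (by simpa using e))
  obtain ⟨k, hkN, hkH⟩ := SetLike.exists_of_lt (Group.normalizerCondition_of_isNilpotent _ hlt)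
  obtain ⟨j, hj⟩ := hD k
  have hex : ∃ j, k ^ 2 ^ j ∈ H.subgroupOf D := ⟨j, by rw [hj]; exact one_mem _⟩
  classical
  have hpos : Nat.find hex ≠ 0 := fun e => hkH (by simpa [e] using Nat.find_spec hex)
  obtain ⟨i, hi⟩ := Nat.exists_eq_succ_of_ne_zero hpos
  have hnot : k ^ 2 ^ i ∉ H.subgroupOf D := Nat.find_min hex (by omega)
  have hsq : k ^ 2 ^ (i + 1) ∈ H.subgroupOf D := by
    have := Nat.find_spec hex
    rwa [hi] at this
  set m := k ^ 2 ^ i with hm
  have hmN : m ∈ Subgroup.normalizer ((H.subgroupOf D : Subgroup ↥D) : Set ↥D) := pow_mem hkN _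
  refine ⟨(m : G), m.2, fun h => hnot (Subgroup.mem_subgroupOf.mpr h), fun h hh => ?_, ?_⟩
  · have := (Subgroup.mem_normalizer_iff''.mp hmN ⟨h, hHD hh⟩).mp hh
    exact this
  · rw [pow_succ, pow_mul, sq] at hsq
    exact hsq

/-- If the value is trivial on some intermediate group it is trivial on `D`. -/
theorem val_extend (θ : ↥C →* M) (hD : IsPGroup 2 D) (q : G ⧸ C) :
    ∀ H : Subgroup G, H ≤ D → (∀ x ∈ D, x • q = q → x ∈ H) → (∀ h ∈ H, val θ H q h = 1) →
      ∀ x ∈ D, val θ D q x = 1 := by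
  suffices ∀ (k : ℕ) (H : Subgroup G), Nat.card D - Nat.card H ≤ k → H ≤ D →
      (∀ x ∈ D, x • q = q → x ∈ H) → (∀ h ∈ H, val θ H q h = 1) → ∀ x ∈ D, val θ D q x = 1 from
    fun H => this _ H le_rfl
  intro k
  induction k with
  | zero =>
    intro H hk hHD _ h1
    have : H = D := Subgroup.eq_of_le_of_card_ge hHD (by omega)
    rwa [← this]
  | succ k ih =>
    intro H hk hHD hR h1
    by_cases hne : H = D
    · rwa [← hne]
    obtain ⟨n, hnD, hnH, hN, hn2⟩ := exists_step hD hHD hne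
    refine ih (ext2 H n hN hn2) ?_ (ext2_le hHD hnD) (fun x hx hq => le_ext2 (hR x hx hq)) ?_
    · have := card_ext2_lt (hN := hN) (hn2 := hn2) hnH
      omega
    · refine val_ext2_trivial θ (fun h hh => ?_) ?_
      · rw [val_ext2_of_mem θ hnH hnD hHD hR hh, h1 h hh, h1 _ (hN h hh), one_mul]
      · rw [val_ext2_self θ hnH hnD hHD hR, h1 _ hn2]

/-- The transfer argument: if all orbits other than the base coset are trivial, so is `θ` at `x`. -/
theorem eq_one_of_orbits (θ : ↥C →* M) (hsq : ∀ c, θ c * θ c = 1)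
    (hres : Cfsg.pResidual 2 G = ⊤) {D : Subgroup G} (hDC : D ≤ C)
    (horb : ∀ q : G ⧸ C, q ≠ ((1 : G) : G ⧸ C) → ∀ x ∈ D, val θ D q x = 1)
    {x : G} (hx : x ∈ D) : θ ⟨x, hDC hx⟩ = 1 := by
  classical
  letI := Fintype.ofFinite (G ⧸ C)
  let V : G →* M := MonoidHom.mk' (fun g => ∏ r : G ⧸ C, alpha θ g r) fun a b => by
    simp only [alpha_mul, Finset.prod_mul_distrib]
    congr 1
    exact Fintype.prod_equiv (MulAction.toPerm b) _ _ fun r => rfl
  have hV : ∀ g, V g = 1 := by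
    have h1 : Cfsg.pResidual 2 G ≤ V.ker := (Subgroup.closure_le _).2 fun g hg => by
      have h2 : orderOf (V g) ∣ orderOf g := orderOf_map_dvd V g
      have h3 : orderOf (V g) ∣ 2 := by
        apply orderOf_dvd_of_pow_eq_one
        rw [sq]
        show (∏ r : G ⧸ C, alpha θ g r) * (∏ r : G ⧸ C, alpha θ g r) = 1
        rw [← Finset.prod_mul_distrib]
        exact Finset.prod_eq_one fun r _ => hsq _
      exact orderOf_eq_one_iff.1 (Nat.eq_one_of_dvd_coprimes hg h2 h3)
    exact fun g => h1 (hres ▸ Subgroup.mem_top g)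
  set q0 : G ⧸ C := ((1 : G) : G ⧸ C) with hq0
  have hfix : ∀ d ∈ D, d • q0 = q0 := fun d hd => by
    rw [hq0, MulAction.Quotient.smul_coe, QuotientGroup.eq]
    simpa using hDC hd
  have hrest : ∏ r ∈ Finset.univ.erase q0, alpha θ x r = 1 := by
    rw [← Finset.prod_fiberwise_of_maps_to (t := (Finset.univ.erase q0).image (orb D))
      (g := orb D) (fun r hr => Finset.mem_image_of_mem _ hr)]
    refine Finset.prod_eq_one fun O hO => ?_
    obtain ⟨q, hq, rfl⟩ := Finset.mem_image.mp hO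
    have hq' := (Finset.mem_erase.mp hq).1
    have hfilt : (Finset.univ.erase q0).filter (fun r => orb D r = orb D q) = orb D q := by
      ext r
      simp only [Finset.mem_filter, Finset.mem_erase, Finset.mem_univ, and_true]
      constructor
      · rintro ⟨-, e⟩
        rw [← e]
        exact self_mem_orb D r
      · intro hr
        obtain ⟨d, hd, rfl⟩ := mem_orb.mp hr
        refine ⟨fun e => hq' ?_, ?_⟩
        · rw [← inv_smul_smul d q, e, hfix _ (D.inv_mem hd)]
        · ext s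
          rw [mem_orb, mem_orb]
          constructor
          · rintro ⟨k, hk, rfl⟩
            exact ⟨k * d, D.mul_mem hk hd, mul_smul _ _ _⟩
          · rintro ⟨k, hk, rfl⟩
            exact ⟨k * d⁻¹, D.mul_mem hk (D.inv_mem hd), by rw [mul_smul, inv_smul_smul]⟩
    rw [hfilt]
    exact horb q hq' x hx
  have h0 : alpha θ x q0 = 1 := by
    have := hV x
    change ∏ r : G ⧸ C, alpha θ x r = 1 at this
    rwa [← Finset.mul_prod_erase _ _ (Finset.mem_univ q0), hrest, mul_one] at this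
  rw [alpha_fix θ (hfix x hx) (fix_mem (hfix x hx))] at h0
  have hs : q0.out ∈ C := by
    have h2 : ((q0.out : G) : G ⧸ C) = ((1 : G) : G ⧸ C) := QuotientGroup.out_eq' _
    rw [QuotientGroup.eq] at h2
    simpa using h2
  rw [show (⟨q0.out⁻¹ * x * q0.out, fix_mem (hfix x hx)⟩ : ↥C) = (⟨_, hs⟩ : ↥C)⁻¹ * ⟨x, hDC hx⟩ * ⟨_, hs⟩
    from Subtype.ext (by simp)] at h0
  rwa [map_mul, map_mul, map_inv, mul_comm (θ ⟨q0.out, hs⟩)⁻¹, inv_mul_cancel_right] at h0

end Cfsg.Agent.Lib.StagedTransfer68
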