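import Cfsg.Agent.Lib.StagedTransfer68.Basic
import Cfsg.Agent.Lib.LargeExtraspecial.Basic

/-!
# Transfer from the centralizer of an involution with extraspecial core
-/

set_option autoImplicit false
set_option linter.style.haveILetI false
set_option linter.unusedSectionVars false

namespace Cfsg.Agent.Lib.StagedTransfer68

open Cfsg.Agent.Lib.LargeExtraspecial.Basic
open scoped Pointwise

variable {G : Type*} [Group G] [Finite G] {E : Subgroup G} {z : G}

/-- Groups containing `E` in which `A` has index at most two are covered by two cosets. -/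
theorem card_le_two_mul {A B : Subgroup G} {n : G} (h : ∀ e ∈ B, e ∈ A ∨ n⁻¹ * e ∈ A) :
    Nat.card B ≤ 2 * Nat.card A := by
  classical
  let f : ↥B → Fin 2 × ↥A := fun e =>
    if h1 : (e : G) ∈ A then (0, ⟨e, h1⟩) else (1, ⟨n⁻¹ * e, (h e e.2).resolve_left h1⟩)
  have hf : Function.Injective f := by
    intro a b e
    simp only [f] at e
    split_ifs at e <;> simp only [Prod.mk.injEq, Subtype.mk.injEq] at e
    · exact Subtype.ext e.2
    · exact absurd e.1 (by decide)
    · exact absurd e.1 (by decide)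
    · exact Subtype.ext (mul_left_cancel e.2)
  simpa [Nat.card_prod] using Nat.card_le_card_of_injective f hf

theorem two_mul_le_card {A B : Subgroup G} (hAB : A ≤ B) {n : G} (hn : n ∈ B) (hnA : n ∉ A) :
    2 * Nat.card A ≤ Nat.card B := by
  classical
  let f : Fin 2 × ↥A → ↥B := fun p => if p.1 = 0 then ⟨p.2, hAB p.2.2⟩ else ⟨n * p.2, B.mul_mem hn (hAB p.2.2)⟩
  have hf : Function.Injective f := by
    rintro ⟨i, a⟩ ⟨j, b⟩ e
    fin_cases i <;> fin_cases j <;> simp [f] at e ⊢
    · exact e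
    · exact hnA (by
        have : n = (a : G) * (b : G)⁻¹ := by rw [e, mul_inv_cancel_right]
        rw [this]; exact A.mul_mem a.2 (A.inv_mem b.2))
    · exact hnA (by
        have : n = (b : G) * (a : G)⁻¹ := by rw [← e, mul_inv_cancel_right]
        rw [this]; exact A.mul_mem b.2 (A.inv_mem a.2))
    · exact e
  simpa [Nat.card_prod] using Nat.card_le_card_of_injective f hf

/-- In an extraspecial group centralizers of subgroups are large. -/
theorem card_mul_centralizer (hES : ES E z) :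
    ∀ (k : ℕ) (B : Subgroup G), Nat.card B ≤ k → B ≤ E → z ∈ B →
      2 * Nat.card E ≤ Nat.card ↥(E ⊓ Subgroup.centralizer (B : Set G)) * Nat.card B := by
  classical
  intro k
  induction k with
  | zero =>
    intro B hk
    have : 0 < Nat.card B := Nat.card_pos
    omega
  | succ k ih =>
    intro B hk hBE hzB
    by_cases hall : ∀ b ∈ B, b = 1 ∨ b = z
    · have hC : E ⊓ Subgroup.centralizer (B : Set G) = E := by
        refine inf_eq_left.mpr fun e he => ?_
        rw [Subgroup.mem_centralizer_iff]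
        intro b hb
        rcases hall b hb with rfl | rfl
        · simp
        · exact (hES.comm e he).eq.symm
      have hB2 : 2 ≤ Nat.card B := by
        haveI : Nontrivial ↥B := ⟨⟨z, hzB⟩, 1, fun e => hES.ne (congrArg Subtype.val e)⟩
        exact Finite.one_lt_card
      rw [hC]
      calc 2 * Nat.card E = Nat.card E * 2 := mul_comm _ _
        _ ≤ _ := Nat.mul_le_mul_left _ hB2
    push Not at hall
    obtain ⟨b, hb, hb1, hbz⟩ := hall
    obtain ⟨p, hp, hpb⟩ := hES.exists_conj_ne (hBE hb) hb1 hbz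
    have hpb' : ¬ Commute p b := fun hc => hES.ne (by
      have := mul_inv_eq_iff_eq_mul.mpr hc.eq
      rw [this] at hpb
      exact mul_eq_left.mp hpb.symm)
    set B0 := B ⊓ Subgroup.centralizer ({p} : Set G) with hB0
    have hbB0 : b ∉ B0 := fun h => hpb' (mem_centralizer_single.mp h.2).symm
    have hzB0 : z ∈ B0 := ⟨hzB, mem_centralizer_single.mpr (hES.comm p hp).symm⟩
    have h1 : 2 * Nat.card B0 ≤ Nat.card B := two_mul_le_card inf_le_left hb hbB0
    have h0 : 0 < Nat.card B0 := Nat.card_pos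
    have hI := ih B0 (by omega) (inf_le_left.trans hBE) hzB0
    have hp1 : chi p b = 1 := (show ∀ a : ZMod 2, a ≠ 0 → a = 1 by decide) _ (fun h => hpb' (chi_eq_zero.mp h))
    have hcov : ∀ c ∈ B, c ∈ B0 ∨ b⁻¹ * c ∈ B0 := by
      intro c hc
      by_cases h : chi p c = 0
      · exact Or.inl ⟨hc, mem_centralizer_single.mpr (chi_eq_zero.mp h).symm⟩
      · refine Or.inr ⟨B.mul_mem (B.inv_mem hb) hc, mem_centralizer_single.mpr (chi_eq_zero.mp ?_).symm⟩
        have hbi : chi p b⁻¹ = 1 := by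
          have h3 := hES.chi_mul_right hp (hBE hb) (E.inv_mem (hBE hb))
          rw [mul_inv_cancel, hp1] at h3
          have h4 : chi p (1 : G) = 0 := chi_eq_zero.mpr (Commute.one_right _)
          rw [h4] at h3
          revert h3
          generalize chi p b⁻¹ = a
          revert a; decide
        rw [hES.chi_mul_right hp (E.inv_mem (hBE hb)) (hBE hc), hbi]
        revert h; generalize chi p c = a; revert a; decide
    -- the centralizer of `B` has index at most two in that of `B0`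
    have h2 : Nat.card ↥(E ⊓ Subgroup.centralizer (B0 : Set G)) ≤
        2 * Nat.card ↥(E ⊓ Subgroup.centralizer (B : Set G)) := by
      have hmem : ∀ c ∈ E ⊓ Subgroup.centralizer (B0 : Set G), chi c b = 0 →
          c ∈ E ⊓ Subgroup.centralizer (B : Set G) := by
        rintro c ⟨hcE, hc⟩ h
        refine ⟨hcE, Subgroup.mem_centralizer_iff.mpr fun d hd => ?_⟩
        rcases hcov d hd with h3 | h3
        · exact Subgroup.mem_centralizer_iff.mp hc d h3
        · have h4 : Commute c (b⁻¹ * d) := (Subgroup.mem_centralizer_iff.mp hc _ h3).symm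
          have h5 := (chi_eq_zero.mp h).mul_right h4
          rw [mul_inv_cancel_left] at h5
          exact h5.eq.symm
      by_cases hsub : ∀ c ∈ E ⊓ Subgroup.centralizer (B0 : Set G), chi c b = 0
      · exact (Subgroup.card_le_of_le fun c hc => hmem c hc (hsub c hc)).trans (by omega)
      push Not at hsub
      obtain ⟨c0, hc0, hc01⟩ := hsub
      refine card_le_two_mul (n := c0) fun c hc => ?_
      by_cases h : chi c b = 0
      · exact Or.inl (hmem c hc h)
      · refine Or.inr (hmem _ (Subgroup.mul_mem _ (Subgroup.inv_mem _ hc0) hc) ?_)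
        have h3 := hES.chi_mul_left hc0.1 (E.mul_mem (E.inv_mem hc0.1) hc.1) (hBE hb)
        rw [mul_inv_cancel_left] at h3
        revert h3 h hc01
        generalize chi c b = a
        generalize chi c0 b = a'
        generalize chi (c0⁻¹ * c) b = a''
        revert a a' a''; decide
    calc 2 * Nat.card E ≤ Nat.card ↥(E ⊓ Subgroup.centralizer (B0 : Set G)) * Nat.card B0 := hI
      _ ≤ 2 * Nat.card ↥(E ⊓ Subgroup.centralizer (B : Set G)) * Nat.card B0 := Nat.mul_le_mul_right _ h2
      _ = Nat.card ↥(E ⊓ Subgroup.centralizer (B : Set G)) * (2 * Nat.card B0) := by ring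
      _ ≤ _ := Nat.mul_le_mul_left _ h1

/-- An involution normalising `E` and centralising a subgroup of index two lies in `E`. -/
theorem mem_of_centralizes_index_two (hES : ES E z) (hcent : Subgroup.centralizer (E : Set G) ≤ E)
    {t : G} (ht : t * t = 1) (hnE : ∀ e ∈ E, t * e * t⁻¹ ∈ E)
    {A : Subgroup G} (hAE : A ≤ E) (hzA : z ∈ A) (hAt : ∀ a ∈ A, Commute t a)
    {n : G} (hn : n ∈ E) (hnA : n ∉ A) (hcov : ∀ e ∈ E, e ∈ A ∨ n⁻¹ * e ∈ A) : t ∈ E := by
  have ext : ∀ u : G, (∀ a ∈ A, Commute u a) → Commute u n → u ∈ E := by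
    intro u hu hun
    apply hcent
    rw [Subgroup.mem_centralizer_iff]
    intro e he
    rcases hcov e he with h | h
    · exact (hu e h).eq.symm
    · have h2 := hun.mul_right (hu _ h)
      rw [mul_inv_cancel_left] at h2
      exact h2.eq.symm
  set n' := t * n * t⁻¹ with hn'
  have hn'E : n' ∈ E := hnE n hn
  set c := n⁻¹ * n' with hc
  have hcE : c ∈ E := E.mul_mem (E.inv_mem hn) hn'E
  have hnA' : ∀ a ∈ A, n * a * n⁻¹ ∈ A := by
    intro a ha
    rcases hES.conj n hn a (hAE ha) with h | h <;> rw [h]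
    · exact ha
    · exact A.mul_mem ha hzA
  have hn'a : ∀ a ∈ A, n' * a * n'⁻¹ = n * a * n⁻¹ := by
    intro a ha
    have h1 : t * a * t⁻¹ = a := mul_inv_eq_iff_eq_mul.mpr (hAt a ha).eq
    have h2 : t * (n * a * n⁻¹) * t⁻¹ = n * a * n⁻¹ := mul_inv_eq_iff_eq_mul.mpr (hAt _ (hnA' a ha)).eq
    calc n' * a * n'⁻¹ = n' * (t * a * t⁻¹) * n'⁻¹ := by rw [h1]
      _ = t * (n * a * n⁻¹) * t⁻¹ := by rw [hn']; group
      _ = _ := h2
  have hca : ∀ a ∈ A, Commute c a := by
    intro a ha
    have : c * a * c⁻¹ = a := by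
      calc c * a * c⁻¹ = n⁻¹ * (n' * a * n'⁻¹) * n := by rw [hc]; group
        _ = a := by rw [hn'a a ha]; group
    exact mul_inv_eq_iff_eq_mul.mp this
  have hnn : n * n ∈ A := by
    rcases hES.sq_cases hn with h | h <;> rw [h]
    · exact A.one_mem
    · exact hzA
  have hn'n' : n' * n' = n * n := by
    calc n' * n' = t * (n * n) * t⁻¹ := by rw [hn']; group
      _ = _ := mul_inv_eq_iff_eq_mul.mpr (hAt _ hnn).eq
  have hcA : c ∈ A := by
    rcases hcov c hcE with h | h
    · exact h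
    · exfalso
      apply hnA
      have h1 : n' ∈ A := by
        have := A.mul_mem hnn h
        convert this using 1
        rw [hc]; group
      have h2 : t⁻¹ * n' * t = n' := by
        rw [mul_assoc, ← (hAt n' h1).eq, inv_mul_cancel_left]
      have h3 : t⁻¹ * n' * t = n := by rw [hn']; group
      rw [← h3, h2]
      exact h1
  have hn'c : n' = n * c := by rw [hc, mul_inv_cancel_left]
  have htn' : t * n' * t⁻¹ = n := by
    have : t⁻¹ = t := inv_eq_of_mul_eq_one_right ht
    calc t * n' * t⁻¹ = (t * t) * n * (t * t)⁻¹ := by rw [hn']; group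
      _ = n := by rw [ht]; group
  have hcc : c * c = 1 := by
    have h1 : t * c * t⁻¹ = c := mul_inv_eq_iff_eq_mul.mpr (hAt c hcA).eq
    have h2 : n = n' * c := by
      conv_lhs => rw [← htn', hn'c]
      calc t * (n * c) * t⁻¹ = n' * (t * c * t⁻¹) := by rw [hn']; group
        _ = n' * c := by rw [h1]
    rw [hn'c, mul_assoc] at h2
    exact mul_eq_left.mp h2.symm
  have hcn : Commute c n := by
    have h1 : n * c * (n * c) = n * n := by rw [← hn'c, hn'n']
    rw [mul_assoc] at h1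
    have h2 : c * (n * c) = n := mul_left_cancel h1
    show c * n = n * c
    calc c * n = c * (n * c) * c := by rw [mul_assoc c (n * c) c, mul_assoc n c c, hcc, mul_one]
      _ = n * c := by rw [h2]
  have hcZ : c = 1 ∨ c = z := by
    apply hES.center c hcE
    intro e he
    rcases hcov e he with h | h
    · exact (hca e h).symm
    · have h2 := hcn.mul_right (hca _ h)
      rw [mul_inv_cancel_left] at h2
      exact h2.symm
  rcases hcZ with hc1 | hc1
  · refine ext t hAt (mul_inv_eq_iff_eq_mul.mp ?_)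
    show t * n * t⁻¹ = n
    rw [← hn', hn'c, hc1, mul_one]
  · -- `t` induces an inner automorphism
    have hbig := card_mul_centralizer hES (Nat.card A) A le_rfl hAE hzA
    have h2A : 2 * Nat.card A ≤ Nat.card E := two_mul_le_card hAE hn hnA
    obtain ⟨e, he, heA, he1, hez⟩ : ∃ e, e ∈ E ∧ (∀ a ∈ A, Commute e a) ∧ e ≠ 1 ∧ e ≠ z := by
      by_contra hno
      push Not at hno
      have h4 : Nat.card ↥(E ⊓ Subgroup.centralizer (A : Set G)) ≤ 2 := by
        classical
        refine (Nat.card_le_card_of_injective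
          (fun a : ↥(E ⊓ Subgroup.centralizer (A : Set G)) => if (a : G) = 1 then (0 : Fin 2) else 1) ?_).trans
          (Nat.card_fin 2).le
        intro a b e
        have hh : ∀ x : ↥(E ⊓ Subgroup.centralizer (A : Set G)), (x : G) = 1 ∨ (x : G) = z := fun x =>
          (em ((x : G) = 1)).imp id fun h => hno x x.2.1
            (fun a ha => (Subgroup.mem_centralizer_iff.mp x.2.2 a ha).symm) h
        rcases hh a with ha | ha <;> rcases hh b with hb | hb <;>
          simp [ha, hb, hES.ne] at e <;> exact Subtype.ext (ha.trans hb.symm)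
      have := Nat.mul_le_mul_right (Nat.card A) h4
      have : 0 < Nat.card A := Nat.card_pos
      omega
    have hen : e * n * e⁻¹ = n * z := by
      refine (hES.conj e he n hn).resolve_left fun h => ?_
      have h' : Commute e n := mul_inv_eq_iff_eq_mul.mp h
      rcases hES.center e he (fun p hp => by
        rcases hcov p hp with h2 | h2
        · exact (heA p h2).symm
        · have h3 := h'.mul_right (heA _ h2)
          rw [mul_inv_cancel_left] at h3
          exact h3.symm) with r | r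
      · exact he1 r
      · exact hez r
    have hu : e⁻¹ * t ∈ E := by
      refine ext _ (fun a ha => ((heA a ha).inv_left).mul_left (hAt a ha)) (mul_inv_eq_iff_eq_mul.mp ?_)
      calc e⁻¹ * t * n * (e⁻¹ * t)⁻¹ = e⁻¹ * (t * n * t⁻¹) * e := by group
        _ = e⁻¹ * (n * z) * e := by rw [← hn', hn'c, hc1]
        _ = n := by rw [← hen]; group
    have := E.mul_mem he hu
    rwa [mul_inv_cancel_left] at this

/-- An abelian subgroup covering `E` in two steps is small. -/
theorem abelian_small (hES : ES E z) {A : Subgroup G} (hAE : A ≤ E)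
    (hab : ∀ a ∈ A, ∀ b ∈ A, Commute a b) {n1 n2 : G} (h1 : n1 ∈ E) (h2 : n2 ∈ E)
    (hgen : ∀ e ∈ E, ∃ a ∈ A, ∃ u v : G, (u = 1 ∨ u = n2) ∧ (v = 1 ∨ v = n1) ∧ e = u * (v * a)) :
    Nat.card A ≤ 8 := by
  classical
  let f : ↥A → ZMod 2 × ZMod 2 := fun a => (chi (a : G) n1, chi (a : G) n2)
  let r : ZMod 2 × ZMod 2 → ↥A := Function.invFun f
  have key : ∀ a : ↥A, (a : G) * ((r (f a) : ↥A) : G)⁻¹ = 1 ∨ (a : G) * ((r (f a) : ↥A) : G)⁻¹ = z := by
    intro a
    have hfr : f (r (f a)) = f a := Function.invFun_eq ⟨a, rfl⟩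
    set b : ↥A := r (f a)
    set w := (a : G) * (b : G)⁻¹ with hw
    have hwA : w ∈ A := A.mul_mem a.2 (A.inv_mem b.2)
    have hz : ∀ m ∈ E, chi (b : G) m = chi (a : G) m → Commute w m := by
      intro m hm e
      have := hES.chi_mul_left (hAE hwA) (hAE b.2) hm
      rw [hw, inv_mul_cancel_right, e] at this
      exact chi_eq_zero.mp (left_eq_add.mp ((add_comm _ _).trans this.symm).symm)
    have hm1 := hz n1 h1 (congrArg Prod.fst hfr)
    have hm2 := hz n2 h2 (congrArg Prod.snd hfr)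
    refine hES.center w (hAE hwA) fun e he => ?_
    obtain ⟨c, hc, u, v, hu, hv, rfl⟩ := hgen e he
    have cu : Commute w u := by rcases hu with rfl | rfl; exacts [Commute.one_right _, hm2]
    have cv : Commute w v := by rcases hv with rfl | rfl; exacts [Commute.one_right _, hm1]
    exact (cu.mul_right (cv.mul_right (hab w hwA c hc))).symm
  let g : ↥A → (ZMod 2 × ZMod 2) × Fin 2 := fun a =>
    (f a, if (a : G) * ((r (f a) : ↥A) : G)⁻¹ = 1 then 0 else 1)
  have hg : Function.Injective g := by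
    intro a b e
    have e1 : f a = f b := congrArg Prod.fst e
    have e2 : (if (a : G) * ((r (f a) : ↥A) : G)⁻¹ = 1 then (0 : Fin 2) else 1) =
        if (b : G) * ((r (f b) : ↥A) : G)⁻¹ = 1 then 0 else 1 := congrArg Prod.snd e
    rw [e1] at e2
    apply Subtype.ext
    have ka := key a
    rw [e1] at ka
    have : (a : G) * ((r (f b) : ↥A) : G)⁻¹ = (b : G) * ((r (f b) : ↥A) : G)⁻¹ := by
      rcases ka with ha | ha <;> rcases key b with hb | hb <;> simp [ha, hb, hES.ne] at e2 ⊢
    exact mul_right_cancel this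
  have := Nat.card_le_card_of_injective g hg
  simpa [Nat.card_prod, Nat.card_zmod] using this

variable {M : Type*} [CommGroup M]

/-- The value of the transfer of `θ` at `2`-elements of `C(z)`, orbit by orbit. -/
theorem transfer_core (θ : ↥(Subgroup.centralizer ({z} : Set G)) →* M) (hsq : ∀ c, θ c * θ c = 1)
    (hres : Cfsg.pResidual 2 G = ⊤) (hES : ES E z) (hEC : E ≤ Subgroup.centralizer ({z} : Set G))
    (hnE : ∀ c ∈ Subgroup.centralizer ({z} : Set G), ∀ e ∈ E, c * e * c⁻¹ ∈ E)
    (hEp : IsPGroup 2 E) (hcent : Subgroup.centralizer (E : Set G) ≤ E)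
    (hbig : ∀ (g : G) (hm : g⁻¹ * z * g ∈ Subgroup.centralizer ({z} : Set G)),
      θ ⟨_, hm⟩ = 1 ∨ 128 ≤ Nat.card E)
    (hspec : ∀ (g : G) (A : Subgroup G), g * z * g⁻¹ ∈ E → g * z * g⁻¹ ≠ z → g * z * g⁻¹ ∈ A →
      A ≤ E → z ∈ A → Nat.card E ≤ 2 * Nat.card A → (∀ a ∈ A, Commute (g * z * g⁻¹) a) →
      ∀ a ∈ A, ∀ hm : g⁻¹ * a * g ∈ Subgroup.centralizer ({z} : Set G), θ ⟨_, hm⟩ = 1)
    {x : G} (hx : x ∈ Subgroup.centralizer ({z} : Set G)) (hxp : ∃ k, orderOf x = 2 ^ k) :
    θ ⟨x, hx⟩ = 1 := by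
  classical
  haveI : Fact (Nat.Prime 2) := ⟨Nat.prime_two⟩
  obtain ⟨k, hk⟩ := hxp
  have hxz : IsPGroup 2 (Subgroup.zpowers x) := IsPGroup.of_card (n := k) (by rw [Nat.card_zpowers, hk])
  set D := Subgroup.zpowers x ⊔ E with hDdef
  have hxN : Subgroup.zpowers x ≤ Subgroup.normalizer (E : Set G) := by
    rw [Subgroup.zpowers_le, Subgroup.mem_normalizer_iff]
    intro e
    refine ⟨hnE x hx e, fun h => ?_⟩
    have := hnE x⁻¹ ((Subgroup.centralizer ({z} : Set G)).inv_mem hx) _ h
    simpa [mul_assoc] using this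
  have hDp : IsPGroup 2 D := IsPGroup.to_sup_of_normal_right' hxz hEp hxN
  have hDC : D ≤ (Subgroup.centralizer ({z} : Set G)) := sup_le (Subgroup.zpowers_le.mpr hx) hEC
  have hED : E ≤ D := le_sup_right
  have hzD : z ∈ D := hED hES.mem
  have hxD : x ∈ D := (le_sup_left : Subgroup.zpowers x ≤ D) (Subgroup.mem_zpowers x)
  refine eq_one_of_orbits θ hsq hres hDC (fun q hq => ?_) hxD
  set g := q.out with hg
  set t := g * z * g⁻¹ with ht
  let R : Subgroup G := D ⊓ MulAction.stabilizer G q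
  have hRD : R ≤ D := inf_le_left
  have hR : ∀ y ∈ D, y • q = q → y ∈ R := fun y h1 h2 => ⟨h1, h2⟩
  have horbR : orb R q = {q} := by
    ext r
    rw [mem_orb, Finset.mem_singleton]
    exact ⟨fun ⟨h, hh, e⟩ => e ▸ hh.2, fun e => ⟨1, R.one_mem, by rw [one_smul, e]⟩⟩
  have hF0 : ∀ y, val θ R q y = alpha θ y q := fun y => by rw [val, horbR, Finset.prod_singleton]
  have hRt : ∀ y ∈ R, Commute t y := by
    intro y hy
    have h1 : g⁻¹ * y * g ∈ (Subgroup.centralizer ({z} : Set G)) := fix_mem hy.2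
    have h2 := mem_centralizer_single.mp h1
    show t * y = y * t
    calc t * y = g * (z * (g⁻¹ * y * g)) * g⁻¹ := by rw [ht]; group
      _ = g * ((g⁻¹ * y * g) * z) * g⁻¹ := by rw [h2.eq]
      _ = y * t := by rw [ht]; group
  -- first stage when `z` moves `q`
  by_cases hzR : z ∈ R
  swap
  · have hzN : ∀ h ∈ R, z⁻¹ * h * z ∈ R := fun h hh => by
      rwa [mul_assoc, (mem_centralizer_single.mp (hDC (hRD hh))).eq, inv_mul_cancel_left]
    have hz2 : z * z ∈ R := by rw [hES.sq]; exact R.one_mem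
    refine val_extend θ hDp q (ext2 R z hzN hz2) (ext2_le hRD hzD) (fun y h1 h2 => le_ext2 (hR y h1 h2))
      (val_ext2_trivial θ (fun h hh => ?_) ?_)
    · rw [val_ext2_of_mem θ hzR hzD hRD hR hh, mul_assoc z⁻¹ h z,
        (mem_centralizer_single.mp (hDC (hRD hh))).eq, inv_mul_cancel_left]
      exact val_sq θ hsq R q h
    · rw [val_ext2_self θ hzR hzD hRD hR, hES.sq, val_one]
  have htC : t ∈ (Subgroup.centralizer ({z} : Set G)) := mem_centralizer_single.mpr (hRt z hzR)
  have htz : t ≠ z := by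
    intro e
    apply hq
    rw [← QuotientGroup.out_eq' q, ← hg, QuotientGroup.eq, mul_one, inv_mem_iff]
    refine mem_centralizer_single.mpr ?_
    show g * z = z * g
    calc g * z = t * g := by rw [ht]; group
      _ = z * g := by rw [e]
  have ht2 : t * t = 1 := by
    calc t * t = g * (z * z) * g⁻¹ := by rw [ht]; group
      _ = 1 := by rw [hES.sq]; group
  have ht1 : t ≠ 1 := fun e => hES.ne (by
    calc z = g⁻¹ * t * g := by rw [ht]; group
      _ = 1 := by rw [e]; group)
  have hER : ¬ E ≤ R := by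
    intro hle
    have htE : t ∈ E := hcent (Subgroup.mem_centralizer_iff.mpr fun e he => (hRt e (hle he)).eq.symm)
    exact (hES.center t htE fun p hp => (hRt p (hle hp)).symm).elim ht1 htz
  -- elements of `E` for the stages
  have hstep : ∀ H : Subgroup G, H ≤ D → z ∈ H → ¬ E ≤ H →
      ∃ n, n ∈ E ∧ n ∉ H ∧ (∀ h ∈ H, n⁻¹ * h * n ∈ H) ∧ n * n ∈ H := by
    intro H hHD hzH hne
    have hHN : H ≤ Subgroup.normalizer (E : Set G) := fun h hh => by
      rw [Subgroup.mem_normalizer_iff]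
      intro e
      refine ⟨hnE h (hDC (hHD hh)) e, fun h' => ?_⟩
      have := hnE h⁻¹ ((Subgroup.centralizer ({z} : Set G)).inv_mem (hDC (hHD hh))) _ h'
      simpa [mul_assoc] using this
    obtain ⟨k, hk, hkH, hkN, -⟩ := exists_step (hDp.to_le (sup_le hHD hED) : IsPGroup 2 ↥(H ⊔ E))
      le_sup_left (fun e => hne (e ▸ le_sup_right))
    have hmem : k ∈ ((H : Set G) * (E : Set G)) := by
      rw [← Subgroup.coe_mul_of_left_le_normalizer_right H E hHN]
      exact hk
    obtain ⟨h, hh, e, he, rfl⟩ := Set.mem_mul.mp hmem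
    refine ⟨e, he, fun h' => hkH (H.mul_mem hh h'), fun y hy => ?_, ?_⟩
    · have := hkN (h * y * h⁻¹) (H.mul_mem (H.mul_mem hh hy) (H.inv_mem hh))
      convert this using 1
      group
    · rcases hES.sq_cases he with r | r <;> rw [r]
      · exact H.one_mem
      · exact hzH
  set A := R ⊓ E with hA
  set w := val θ R q z with hw
  have hww : w * w = 1 := val_sq θ hsq R q z
  have hF0ab : ∀ a ∈ R, ∀ b ∈ R, val θ R q (a * b) = val θ R q a * val θ R q b :=
    fun a _ b hb => val_mul θ R q a hb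
  have hw1 : (∃ a ∈ A, ∃ b ∈ A, ¬ Commute a b) → w = 1 := by
    rintro ⟨a, ha, b, hb, hab⟩
    have h1 : a * b * a⁻¹ = b * z := (hES.conj a ha.2 b hb.2).resolve_left
      fun e => hab (mul_inv_eq_iff_eq_mul.mp e)
    have h2 : val θ R q (b * z) * val θ R q a = val θ R q a * val θ R q b := by
      rw [← hF0ab _ (R.mul_mem hb.1 hzR) _ ha.1, ← hF0ab _ ha.1 _ hb.1, ← h1, inv_mul_cancel_right]
    rw [hF0ab _ hb.1 _ hzR, ← hw] at h2
    have h3 : val θ R q a * val θ R q b * w = val θ R q a * val θ R q b := by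
      conv_rhs => rw [← h2]
      ac_rfl
    exact mul_eq_left.mp h3
  -- first stage
  obtain ⟨n1, hn1E, hn1R, hN1, hS1⟩ := hstep R hRD hzR hER
  set R1 := ext2 R n1 hN1 hS1 with hR1
  have hR1D : R1 ≤ D := ext2_le hRD (hED hn1E)
  have hR1' : ∀ y ∈ D, y • q = q → y ∈ R1 := fun y h1 h2 => le_ext2 (hR y h1 h2)
  have hF1 : ∀ h ∈ R, val θ R1 q h = val θ R q h * val θ R q (n1⁻¹ * h * n1) :=
    fun h hh => val_ext2_of_mem θ hn1R (hED hn1E) hRD hR hh
  have hdec1 : ∀ e ∈ E, e ∈ R1 → e ∈ A ∨ n1⁻¹ * e ∈ A := fun e he h => by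
    rcases h with h | h
    · exact Or.inl ⟨h, he⟩
    · exact Or.inr ⟨h, E.mul_mem (E.inv_mem hn1E) he⟩
  have hconj : ∀ n ∈ E, ∀ a ∈ E, n⁻¹ * a * n = a ∨ n⁻¹ * a * n = a * z := by
    intro n hn a ha
    simpa using hES.conj n⁻¹ (E.inv_mem hn) a ha
  have hF1a : ∀ a ∈ A, val θ R1 q a = 1 ∨ val θ R1 q a = w := by
    intro a ha
    rw [hF1 a ha.1]
    rcases hconj n1 hn1E a ha.2 with r | r <;> rw [r]
    · exact Or.inl (val_sq θ hsq R q a)
    · right
      rw [hF0ab _ ha.1 _ hzR, ← mul_assoc, val_sq θ hsq R q a, one_mul]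
  have hF1n : val θ R1 q n1 = 1 ∨ val θ R1 q n1 = w := by
    rw [val_ext2_self θ hn1R (hED hn1E) hRD hR]
    rcases hES.sq_cases hn1E with r | r <;> rw [r]
    · exact Or.inl (val_one θ R q)
    · exact Or.inr rfl
  have hF1E : ∀ e ∈ E, e ∈ R1 → val θ R1 q e = 1 ∨ val θ R1 q e = w := by
    intro e he h
    rcases hdec1 e he h with h' | h'
    · exact hF1a e h'
    · have h2 := val_mul θ R1 q n1 (le_ext2 (hN := hN1) (hn2 := hS1) h'.1)
      rw [mul_inv_cancel_left] at h2
      rw [h2]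
      rcases hF1n with r | r <;> rcases hF1a _ h' with r' | r' <;> rw [r, r'] <;>
        simp [hww]
  have hF1z : val θ R1 q z = 1 := by
    rw [hF1 z hzR, mul_assoc n1⁻¹ z n1, ← (hES.comm n1 hn1E).eq, inv_mul_cancel_left]
    exact hww
  by_cases hE1 : E ≤ R1
  · -- `A` has index two in `E`
    have hcov : ∀ e ∈ E, e ∈ A ∨ n1⁻¹ * e ∈ A := fun e he => hdec1 e he (hE1 he)
    have hn1A : n1 ∉ A := fun h => hn1R h.1
    have hAt : ∀ a ∈ A, Commute t a := fun a ha => hRt a ha.1
    have htE : t ∈ E := mem_of_centralizes_index_two hES hcent ht2 (fun e he => hnE t htC e he)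
      inf_le_right ⟨hzR, hES.mem⟩ hAt hn1E hn1A hcov
    have htA : t ∈ A := by
      rcases hcov t htE with h | h
      · exact h
      · exfalso
        refine (hES.center t htE fun p hp => ?_).elim ht1 htz
        have hn : Commute t n1 := by
          have h2 : Commute t (t * (n1⁻¹ * t)⁻¹) := (Commute.refl t).mul_right (hAt _ h).inv_right
          simpa using h2
        rcases hcov p hp with h' | h'
        · exact (hAt p h').symm
        · have h3 := hn.mul_right (hAt _ h')
          rw [mul_inv_cancel_left] at h3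
          exact h3.symm
    have hA1 : ∀ a ∈ A, val θ R q a = 1 := by
      intro a ha
      rw [hF0, alpha_fix θ ha.1.2 (fix_mem ha.1.2)]
      exact hspec g A htE htz htA inf_le_right ⟨hzR, hES.mem⟩ (card_le_two_mul hcov) hAt a ha _
    refine val_extend θ hDp q R1 hR1D hR1' (val_ext2_trivial θ (fun h hh => ?_) ?_)
    · have hc : h⁻¹ * (n1⁻¹ * h * n1) ∈ A := by
        refine ⟨R.mul_mem (R.inv_mem hh) (hN1 h hh), ?_⟩
        have := E.mul_mem (hnE h⁻¹ ((Subgroup.centralizer ({z} : Set G)).inv_mem (hDC (hRD hh))) n1⁻¹ (E.inv_mem hn1E)) hn1E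
        simpa [mul_assoc] using this
      have e : n1⁻¹ * h * n1 = h * (h⁻¹ * (n1⁻¹ * h * n1)) := (mul_inv_cancel_left _ _).symm
      rw [val_ext2_of_mem θ hn1R (hED hn1E) hRD hR hh, e, hF0ab _ hh _ hc.1, hA1 _ hc, mul_one]
      exact val_sq θ hsq R q h
    · rw [val_ext2_self θ hn1R (hED hn1E) hRD hR]
      exact hA1 _ ⟨hS1, E.mul_mem hn1E hn1E⟩
  -- second stage
  obtain ⟨n2, hn2E, hn2R, hN2, hS2⟩ := hstep R1 hR1D (le_ext2 hzR) hE1
  set R2 := ext2 R1 n2 hN2 hS2 with hR2
  have hR2D : R2 ≤ D := ext2_le hR1D (hED hn2E)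
  have hR2' : ∀ y ∈ D, y • q = q → y ∈ R2 := fun y h1 h2 => le_ext2 (hR1' y h1 h2)
  have hF2 : ∀ h ∈ R1, val θ R2 q h = 1 ∨ val θ R2 q h = w := by
    intro h hh
    have hc : h⁻¹ * (n2⁻¹ * h * n2) ∈ R1 := R1.mul_mem (R1.inv_mem hh) (hN2 h hh)
    have hcE : h⁻¹ * (n2⁻¹ * h * n2) ∈ E := by
      have := E.mul_mem (hnE h⁻¹ ((Subgroup.centralizer ({z} : Set G)).inv_mem (hDC (hR1D hh))) n2⁻¹ (E.inv_mem hn2E)) hn2E
      convert this using 1
      group
    rw [val_ext2_of_mem θ hn2R (hED hn2E) hR1D hR1' hh,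
      show n2⁻¹ * h * n2 = h * (h⁻¹ * (n2⁻¹ * h * n2)) from (mul_inv_cancel_left _ _).symm,
      val_mul θ R1 q h hc, ← mul_assoc, val_sq θ hsq R1 q h, one_mul]
    exact hF1E _ hcE hc
  have hF2n : val θ R2 q n2 = 1 := by
    rw [val_ext2_self θ hn2R (hED hn2E) hR1D hR1']
    rcases hES.sq_cases hn2E with r | r <;> rw [r]
    · exact val_one θ R1 q
    · exact hF1z
  by_cases hw' : w = 1
  · exact val_extend θ hDp q R2 hR2D hR2'
      (val_ext2_trivial θ (fun h hh => (hF2 h hh).elim id (fun r => r.trans hw')) hF2n)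
  have hab : ∀ a ∈ A, ∀ b ∈ A, Commute a b := fun a ha b hb => by
    by_contra hc
    exact hw' (hw1 ⟨a, ha, b, hb, hc⟩)
  have hE2 : ¬ E ≤ R2 := by
    intro hle
    have hz1 : g⁻¹ * z * g ∈ (Subgroup.centralizer ({z} : Set G)) := fix_mem hzR.2
    have h128 : 128 ≤ Nat.card E := (hbig g hz1).resolve_left fun e => hw' (by
      rw [hw, hF0, alpha_fix θ hzR.2 hz1]; exact e)
    have hgen : ∀ e ∈ E, ∃ a ∈ A, ∃ u v : G, (u = 1 ∨ u = n2) ∧ (v = 1 ∨ v = n1) ∧ e = u * (v * a) := by
      intro e he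
      rcases hle he with h | h
      · rcases hdec1 e he h with h' | h'
        · exact ⟨e, h', 1, 1, Or.inl rfl, Or.inl rfl, by group⟩
        · exact ⟨_, h', 1, n1, Or.inl rfl, Or.inr rfl, by group⟩
      · rcases hdec1 _ (E.mul_mem (E.inv_mem hn2E) he) h with h' | h'
        · exact ⟨_, h', n2, 1, Or.inr rfl, Or.inl rfl, by group⟩
        · exact ⟨_, h', n2, n1, Or.inr rfl, Or.inr rfl, by group⟩
    have h8 : Nat.card ↥A ≤ 8 := abelian_small hES inf_le_right hab hn1E hn2E hgen
    have h4 : Nat.card E ≤ 4 * Nat.card A := by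
      have e1 : Nat.card ↥(E ⊓ R1) ≤ 2 * Nat.card A := card_le_two_mul fun e he => hdec1 e he.1 he.2
      have e2 : Nat.card E ≤ 2 * Nat.card ↥(E ⊓ R1) := card_le_two_mul (n := n2) fun e he => by
        rcases hle he with h | h
        · exact Or.inl ⟨he, h⟩
        · exact Or.inr ⟨E.mul_mem (E.inv_mem hn2E) he, h⟩
      omega
    omega
  have hF2E : ∀ e ∈ E, e ∈ R2 → val θ R2 q e = 1 := by
    have hb : ∀ e ∈ E, e ∈ R1 → val θ R2 q e = 1 := by
      intro e he h
      rw [val_ext2_of_mem θ hn2R (hED hn2E) hR1D hR1' h]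
      rcases hconj n2 hn2E e he with r | r <;> rw [r]
      · exact val_sq θ hsq R1 q e
      · rw [val_mul θ R1 q e (le_ext2 hzR), hF1z, mul_one]
        exact val_sq θ hsq R1 q e
    intro e he h
    rcases h with h | h
    · exact hb e he h
    · have h2 := val_mul θ R2 q n2 (le_ext2 (hN := hN2) (hn2 := hS2) h)
      rw [mul_inv_cancel_left] at h2
      rw [h2, hF2n, one_mul]
      exact hb _ (E.mul_mem (E.inv_mem hn2E) he) h
  -- third stage
  obtain ⟨n3, hn3E, hn3R, hN3, hS3⟩ := hstep R2 hR2D (le_ext2 (le_ext2 hzR)) hE2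
  refine val_extend θ hDp q (ext2 R2 n3 hN3 hS3) (ext2_le hR2D (hED hn3E))
    (fun y h1 h2 => le_ext2 (hR2' y h1 h2)) (val_ext2_trivial θ (fun h hh => ?_) ?_)
  · have hc : h⁻¹ * (n3⁻¹ * h * n3) ∈ R2 := R2.mul_mem (R2.inv_mem hh) (hN3 h hh)
    have hcE : h⁻¹ * (n3⁻¹ * h * n3) ∈ E := by
      have := E.mul_mem (hnE h⁻¹ ((Subgroup.centralizer ({z} : Set G)).inv_mem (hDC (hR2D hh))) n3⁻¹ (E.inv_mem hn3E)) hn3E
      convert this using 1
      group
    rw [val_ext2_of_mem θ hn3R (hED hn3E) hR2D hR2' hh,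
      show n3⁻¹ * h * n3 = h * (h⁻¹ * (n3⁻¹ * h * n3)) from (mul_inv_cancel_left _ _).symm,
      val_mul θ R2 q h hc, hF2E _ hcE hc, mul_one]
    exact val_sq θ hsq R2 q h
  · rw [val_ext2_self θ hn3R (hED hn3E) hR2D hR2']
    exact hF2E _ (E.mul_mem hn3E hn3E) hS3

end Cfsg.Agent.Lib.StagedTransfer68
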